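import Mathlib

/-!
The algebraic part of the Feit-Higman theorem: two elements satisfying the quadratic Hecke
relations and a trace give spherical idempotents.
-/

set_option autoImplicit false

namespace Cfsg.Agent.Lib.FeitHigman

open Finset

variable {R : Type*} [Ring R] [Algebra ℝ R]

/-- the alternating product `(T S)^j T` -/
def word (S T : R) (j : ℕ) : R := (T * S) ^ j * T

theorem word_succ (S T : R) (j : ℕ) : word S T (j + 1) = word S T j * S * T := by
  simp only [word, pow_succ, mul_assoc]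

/-- `e (T S)^j T e`, shifted by one, with `F 0 = e` -/
def sph (S T : R) : ℕ → R
  | 0 => 1 + S
  | j + 1 => (1 + S) * word S T j * (1 + S)

/-- the norm of the `j`-th sphere -/
noncomputable def eta (a b : ℝ) : ℕ → ℝ
  | 0 => 1
  | j + 1 => b * (1 + a) * (a * b) ^ j

variable {S T : R} {a b : ℝ}

theorem e_mul_S (hS : S * S = a • 1 + (a - 1) • S) : (1 + S) * S = a • (1 + S) := by
  rw [add_mul, one_mul, hS]; module

theorem S_mul_e (hS : S * S = a • 1 + (a - 1) • S) : S * (1 + S) = a • (1 + S) := by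
  rw [mul_add, mul_one, hS]; module

theorem e_mul_e (hS : S * S = a • 1 + (a - 1) • S) : (1 + S) * (1 + S) = (1 + a) • (1 + S) := by
  rw [mul_add, mul_one, e_mul_S hS]; module

theorem e_pow_e (hS : S * S = a • 1 + (a - 1) • S) (j : ℕ) :
    (1 + S) * (T * S) ^ (j + 1) * (1 + S) = a • sph S T (j + 1) := by
  have h : (T * S) ^ (j + 1) = word S T j * S := by simp only [word, pow_succ, mul_assoc]
  rw [h, ← mul_assoc, mul_assoc, S_mul_e hS, mul_smul_comm, sph]

theorem sph_zero_mul : sph S T 0 * (T * (1 + S)) = sph S T 1 := by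
  simp [sph, word, mul_assoc]

theorem sph_mul_aux (hT : T * T = b • 1 + (b - 1) • T) (j : ℕ) :
    sph S T (j + 1) * ((T * (1 + S))) =
      (1 + S) * word S T j * S * T * (1 + S) + (b - 1) • sph S T (j + 1) +
        b • ((1 + S) * (T * S) ^ j * (1 + S)) := by
  have h : word S T j * T = b • (T * S) ^ j + (b - 1) • word S T j := by
    rw [word, mul_assoc, hT, mul_add, mul_smul_comm, mul_one, mul_smul_comm]
  calc sph S T (j + 1) * (T * (1 + S))
      = (1 + S) * (word S T j * T) * (1 + S) + (1 + S) * word S T j * S * T * (1 + S) := by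
        rw [sph]; noncomm_ring
    _ = _ := by
        rw [h, mul_add (1 + S), mul_smul_comm, mul_smul_comm, add_mul, smul_mul_assoc, smul_mul_assoc, sph]
        abel

theorem sph_one_mul (hS : S * S = a • 1 + (a - 1) • S) (hT : T * T = b • 1 + (b - 1) • T) :
    sph S T 1 * (T * (1 + S)) =
      sph S T 2 + (b - 1) • sph S T 1 + (b * (1 + a)) • sph S T 0 := by
  rw [sph_mul_aux hT, pow_zero, mul_one, e_mul_e hS, smul_smul]
  congr 2
  simp only [sph, word_succ, mul_assoc]

theorem sph_succ_mul (hS : S * S = a • 1 + (a - 1) • S) (hT : T * T = b • 1 + (b - 1) • T) (j : ℕ) :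
    sph S T (j + 2) * (T * (1 + S)) =
      sph S T (j + 3) + (b - 1) • sph S T (j + 2) + (a * b) • sph S T (j + 1) := by
  rw [sph_mul_aux hT, e_pow_e hS, smul_smul, mul_comm a b]
  congr 2
  simp only [sph, word_succ, mul_assoc]

theorem sph_top_even (hS : S * S = a • 1 + (a - 1) • S) (hT : T * T = b • 1 + (b - 1) • T) (D : ℕ)
    (hX : word S T (D + 1) * S = S * word S T (D + 1)) :
    sph S T (D + 3) = (a * (b - 1)) • sph S T (D + 2) + (a * a * b) • sph S T (D + 1) := by
  have h : word S T (D + 1) * T = b • (T * S) ^ (D + 1) + (b - 1) • word S T (D + 1) := by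
    rw [word, mul_assoc, hT, mul_add, mul_smul_comm, mul_one, mul_smul_comm]
  calc sph S T (D + 3) = (1 + S) * (word S T (D + 1) * S) * T * (1 + S) := by
        simp only [sph, word_succ, mul_assoc]
    _ = (1 + S) * S * (word S T (D + 1) * T) * (1 + S) := by rw [hX]; simp only [mul_assoc]
    _ = a • ((1 + S) * (word S T (D + 1) * T) * (1 + S)) := by
        rw [e_mul_S hS, smul_mul_assoc, smul_mul_assoc]
    _ = _ := by
        rw [h, mul_add (1 + S), mul_smul_comm, mul_smul_comm, add_mul, smul_mul_assoc, smul_mul_assoc,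
          e_pow_e hS]
        simp only [sph]
        module

theorem sph_top_odd (hS : S * S = a • 1 + (a - 1) • S) (D : ℕ)
    (hX : word S T (D + 2) = S * word S T (D + 1) * S) :
    sph S T (D + 3) = (a * a) • sph S T (D + 2) := by
  calc sph S T (D + 3) = ((1 + S) * S) * word S T (D + 1) * (S * (1 + S)) := by
        rw [sph, hX]; simp only [mul_assoc]
    _ = _ := by
        rw [e_mul_S hS, S_mul_e hS, smul_mul_assoc, smul_mul_assoc, mul_smul_comm, smul_smul]
        rfl

/-- the partial spherical sum -/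
noncomputable def partialSum (S T : R) (w : ℕ → ℝ) (k : ℕ) : R :=
  ∑ j ∈ range (k + 1), w j • sph S T j

theorem partialSum_succ (w : ℕ → ℝ) (k : ℕ) :
    partialSum S T w (k + 1) = partialSum S T w k + w (k + 1) • sph S T (k + 1) := by
  rw [partialSum, sum_range_succ, ← partialSum]

/-- the residual of a partial spherical sum -/
theorem residual (ha : 0 < a) (hb : 0 < b)
    (hS : S * S = a • 1 + (a - 1) • S) (hT : T * T = b • 1 + (b - 1) • T)
    {x : ℝ} {p w : ℕ → ℝ} (h0 : p 0 = 1) (h1 : p 1 = x + (b - 1))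
    (h2 : p 2 = x * p 1 - b * (1 + a)) : ∀ k : ℕ,
    (∀ j < k, p (j + 3) = x * p (j + 2) - a * b * p (j + 1)) →
    (∀ j ≤ k + 1, w j = p j / eta a b j) →
    partialSum S T w (k + 1) * (T * (1 + S)) - (x + (b - 1)) • partialSum S T w (k + 1) =
      w (k + 1) • sph S T (k + 2) - (p (k + 2) / eta a b (k + 1)) • sph S T (k + 1) := by
  intro k
  have h1a : (1 + a) ≠ 0 := by positivity
  induction k with
  | zero =>
    intro _ hw
    have e0 : w 0 = 1 := by rw [hw 0 (by omega), h0, eta, div_one]
    have e1 : w 1 = p 1 / (b * (1 + a)) := by rw [hw 1 (by omega), eta, pow_zero, mul_one]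
    have hp : partialSum S T w 1 = sph S T 0 + w 1 • sph S T 1 := by
      rw [partialSum, sum_range_succ, sum_range_one, e0, one_smul]
    rw [hp, add_mul, smul_mul_assoc, sph_zero_mul, sph_one_mul hS hT, e1]
    simp only [eta, pow_zero, mul_one]
    rw [h2, h1]
    match_scalars <;> field_simp <;> ring
  | succ k ih =>
    intro hrec hw
    have ih' := ih (fun j hj => hrec j (by omega)) (fun j hj => hw j (by omega))
    rw [partialSum_succ, add_mul, smul_mul_assoc, smul_add, add_sub_add_comm, ih',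
      sph_succ_mul hS hT, hw (k + 1 + 1) le_rfl, hw (k + 1) (by omega),
      hrec k (by omega)]
    simp only [eta, pow_succ]
    match_scalars <;> field_simp <;> ring

theorem trace_sph (tr : R →ₗ[ℝ] ℝ) (hcyc : ∀ x y : R, tr (x * y) = tr (y * x))
    (hS : S * S = a • 1 + (a - 1) • S) (j : ℕ) :
    tr (sph S T (j + 1)) = (1 + a) * (tr (word S T j) + tr (S * word S T j)) := by
  rw [sph, hcyc, ← mul_assoc, e_mul_e hS, smul_mul_assoc, map_smul, smul_eq_mul]
  congr 1
  rw [add_mul, one_mul, map_add]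

/-- A spherical eigenvector gives an integral multiplicity. -/
theorem multiplicity (ha : 0 < a) (hb : 0 < b)
    (hS : S * S = a • 1 + (a - 1) • S) (hT : T * T = b • 1 + (b - 1) • T)
    (tr : R →ₗ[ℝ] ℝ) (hcyc : ∀ x y : R, tr (x * y) = tr (y * x))
    {N : ℝ} (hN : tr 1 = N) (hN0 : N ≠ 0) (hSt : tr S = 0)
    (hidem : ∀ E : R, E * E = E → ∃ n : ℕ, tr E = n)
    {d : ℕ} (htrX : ∀ j, j + 1 ≤ d → tr (word S T j) = 0 ∧ tr (S * word S T j) = 0)
    {x : ℝ} {p w : ℕ → ℝ} (h0 : p 0 = 1) (h1 : p 1 = x + (b - 1))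
    (h2 : p 2 = x * p 1 - b * (1 + a))
    (hrec : ∀ j, j + 3 ≤ d → p (j + 3) = x * p (j + 2) - a * b * p (j + 1))
    (hw0 : w 0 = 1)
    (heig : partialSum S T w d * (T * (1 + S)) = (x + (b - 1)) • partialSum S T w d)
    (hpos : 0 < ∑ j ∈ range (d + 1), w j * p j) :
    ∃ q : ℚ, (∑ j ∈ range (d + 1), w j * p j) * (1 + a) = (q : ℝ) * N := by
  generalize hΨ : partialSum S T w d = Ψ at heig
  have hmul : ∀ j, j ≤ d → Ψ * sph S T j = ((1 + a) * p j) • Ψ := by
    intro j
    induction j using Nat.strong_induction_on with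
    | _ j ih =>
      intro hj
      have hF0 : Ψ * sph S T 0 = (1 + a) • Ψ := by
        have : Ψ * (1 + S) = (1 + a) • Ψ := by
          rw [← hΨ, partialSum, sum_mul, smul_sum]
          refine sum_congr rfl fun i _ => ?_
          rcases i with _ | i
          · rw [smul_mul_assoc, sph, e_mul_e hS, smul_comm]
          · rw [smul_mul_assoc, sph, mul_assoc _ (1 + S) (1 + S), e_mul_e hS, mul_smul_comm,
              smul_comm]
        exact this
      rcases j with _ | _ | _ | j
      · rw [hF0, h0, mul_one]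
      · rw [← sph_zero_mul, ← mul_assoc, hF0, smul_mul_assoc, heig, smul_smul, h1]
      · have hF1 := ih 1 (by omega) (by omega)
        have e : sph S T 2 = sph S T 1 * (T * (1 + S)) - (b - 1) • sph S T 1 -
            (b * (1 + a)) • sph S T 0 := by rw [sph_one_mul hS hT]; abel
        rw [e, mul_sub, mul_sub, ← mul_assoc, mul_smul_comm, mul_smul_comm, hF1, hF0,
          smul_mul_assoc, heig, h2]
        match_scalars
        ring
      · have hF2 := ih (j + 2) (by omega) (by omega)
        have hF1 := ih (j + 1) (by omega) (by omega)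
        have e : sph S T (j + 3) = sph S T (j + 2) * (T * (1 + S)) - (b - 1) • sph S T (j + 2) -
            (a * b) • sph S T (j + 1) := by rw [sph_succ_mul hS hT]; abel
        rw [e, mul_sub, mul_sub, ← mul_assoc, mul_smul_comm, mul_smul_comm, hF2, hF1,
          smul_mul_assoc, heig, hrec j hj]
        match_scalars
        ring
  generalize hσ : (∑ j ∈ range (d + 1), w j * p j) = σ at hpos ⊢
  have hsq : Ψ * Ψ = ((1 + a) * σ) • Ψ := by
    nth_rewrite 2 [← hΨ]
    rw [partialSum, mul_sum, ← hσ, mul_sum, sum_smul]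
    refine sum_congr rfl fun j hj => ?_
    rw [mul_smul_comm, hmul j (by simpa [Nat.lt_succ_iff] using hj), smul_smul]
    congr 1; ring
  have hne : (1 + a) * σ ≠ 0 := mul_ne_zero (by positivity) hpos.ne'
  have hE : (((1 + a) * σ)⁻¹ • Ψ) * (((1 + a) * σ)⁻¹ • Ψ) = ((1 + a) * σ)⁻¹ • Ψ := by
    rw [smul_mul_smul_comm, hsq, smul_smul, mul_assoc, inv_mul_cancel₀ hne, mul_one]
  obtain ⟨n, hn⟩ := hidem _ hE
  have htr : tr Ψ = N := by
    rw [← hΨ, partialSum, map_sum, sum_range_succ', hw0, one_smul]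
    have : ∀ i ∈ range d, tr (w (i + 1) • sph S T (i + 1)) = 0 := by
      intro i hi
      obtain ⟨e1, e2⟩ := htrX i (by simpa [Nat.succ_le_iff] using hi)
      rw [map_smul, trace_sph tr hcyc hS, e1, e2, add_zero, mul_zero, smul_zero]
    rw [sum_eq_zero this, zero_add, sph, map_add, hN, hSt, add_zero]
  rw [map_smul, htr, smul_eq_mul] at hn
  refine ⟨1 / n, ?_⟩
  have hn0 : (n : ℝ) ≠ 0 := by
    rw [← hn]; exact mul_ne_zero (inv_ne_zero hne) hN0
  push_cast
  rw [← hn]
  field_simp

end Cfsg.Agent.Lib.FeitHigman
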