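import Cfsg.Agent.Lib.BNPair.Weyl
import Cfsg.Agent.Lib.FeitHigman.Algebra

/-!
The Hecke operators of a (B,N)-pair on the cosets of `B`, and reduced alternating words.
-/

set_option autoImplicit false

namespace Cfsg.Agent.Lib.FeitHigman

open Cfsg.Agent.Lib.BNPair Matrix

variable {G : Type*} [Group G] [Finite G] (P : Cfsg.BNPair G)

noncomputable instance : Fintype (G ⧸ P.B) := Fintype.ofFinite _

noncomputable instance : DecidableEq (G ⧸ P.B) := Classical.decEq _

open scoped Classical in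
/-- the adjacency matrix of the double coset of `n` -/
noncomputable def hecke (n : G) : Matrix (G ⧸ P.B) (G ⧸ P.B) ℝ :=
  Matrix.of fun x y => if x.out⁻¹ * y.out ∈ dc P n then 1 else 0

theorem hecke_congr {n n' : G} (h : Cong P n n') : hecke P n = hecke P n' := by
  unfold hecke; rw [dc_eq_of_cong P h]

theorem out_mem_B_iff (x y : G ⧸ P.B) : x.out⁻¹ * y.out ∈ P.B ↔ x = y := by
  rw [← QuotientGroup.eq, QuotientGroup.out_eq', QuotientGroup.out_eq']

open scoped Classical in
theorem hecke_one : hecke P 1 = 1 := by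
  ext x y
  simp only [hecke, Matrix.of_apply, dc_one, out_mem_B_iff, Matrix.one_apply]

omit [Finite G] in
theorem mul_mem_dc_s_mul {s n g h : G} (hs : s ∈ P.S) (hn : n ∈ P.N)
    (hle : len P n ≤ len P (s * n)) (hg : g ∈ dc P s) (hh : h ∈ dc P n) :
    g * h ∈ dc P (s * n) := by
  obtain ⟨a, ha, b, hb, rfl⟩ := (mem_dc P).1 hg
  obtain ⟨c, hc, d, hd, rfl⟩ := (mem_dc P).1 hh
  have h1 := dc_mul_right P hd (dc_mul_left P ha (mem_dc_s_mul P hs hn (mul_mem hb hc) hle))
  have e : a * s * b * (c * n * d) = a * (s * (b * c) * n) * d := by group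
  rwa [e]

omit [Finite G] in
theorem mul_mem_dc_ss {s g h : G} (hs : s ∈ P.S) (hg : g ∈ dc P s) (hh : h ∈ dc P s) :
    g * h ∈ P.B ∨ g * h ∈ dc P s := by
  obtain ⟨a, ha, b, hb, rfl⟩ := (mem_dc P).1 hg
  obtain ⟨c, hc, d, hd, rfl⟩ := (mem_dc P).1 hh
  have e : a * s * b * (c * s * d) = a * (s * (b * c) * s) * d := by group
  rw [e]
  rcases mem_union P hs (s_mem P hs) (mul_mem hb hc) with h | h
  · rw [dc_eq_of_cong P (cong_ss P hs), dc_one] at h
    exact Or.inl (mul_mem (mul_mem ha h) hd)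
  · exact Or.inr (dc_mul_right P hd (dc_mul_left P ha h))

omit [Finite G] in
theorem dc_s_inv {s g : G} (hs : s ∈ P.S) (hg : g ∈ dc P s) : g⁻¹ ∈ dc P s := by
  have := dc_inv P hg
  rwa [dc_eq_of_cong P (cong_inv_s P hs)] at this

omit [Finite G] in
theorem disjoint_s_mul {s n g : G} (hs : s ∈ P.S) (hn : n ∈ P.N) (h1 : g ∈ dc P (s * n))
    (h2 : g ∈ dc P n) : False :=
  len_s_mul_ne P hs hn (len_congr P (cong_of_mem_dc P (mul_mem (s_mem P hs) hn) hn h1 h2))

/-- the valency of `s` -/
noncomputable def valency (s : G) : ℕ :=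
  Nat.card {z : G ⧸ P.B // (1 : G) * z.out ∈ dc P s}

open scoped Classical in
theorem card_step (s : G) (x : G ⧸ P.B) :
    Nat.card {z : G ⧸ P.B // x.out⁻¹ * z.out ∈ dc P s} = valency P s := by
  have key : ∀ (g : G) (w : G ⧸ P.B), g * w.out ∈ dc P s ↔ (g • w).out ∈ dc P s := by
    intro g w
    have h : ((g • w).out)⁻¹ * (g * w.out) ∈ P.B := by
      rw [← QuotientGroup.eq, QuotientGroup.out_eq']
      conv_lhs => rw [← QuotientGroup.out_eq' w]
      rfl
    constructor
    · intro hm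
      have := dc_mul_right P (inv_mem h) hm
      simpa [mul_assoc] using this
    · intro hm
      have := dc_mul_right P h hm
      simpa [mul_assoc] using this
  refine Nat.card_congr (Equiv.subtypeEquiv (MulAction.toPerm x.out⁻¹) fun z => ?_)
  rw [one_mul, key]
  rfl

open scoped Classical in
theorem hecke_mul {s n : G} (hs : s ∈ P.S) (hn : n ∈ P.N) (hle : len P n ≤ len P (s * n)) :
    hecke P s * hecke P n = hecke P (s * n) := by
  ext x y
  simp only [Matrix.mul_apply, hecke, Matrix.of_apply, mul_ite, mul_one, mul_zero, ← ite_and]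
  rw [Finset.sum_boole]
  have hcomp : ∀ u v w : G ⧸ P.B, u.out⁻¹ * v.out * (v.out⁻¹ * w.out) = u.out⁻¹ * w.out :=
    fun u v w => by group
  split_ifs with hxy
  · obtain ⟨a, ha, b, hb, he⟩ := (mem_dc P).1 hxy
    let z : G ⧸ P.B := QuotientGroup.mk (x.out * a * s)
    have hzB : z.out⁻¹ * (x.out * a * s) ∈ P.B := by
      rw [← QuotientGroup.eq, QuotientGroup.out_eq']
    have hz : y.out = z.out * ((z.out⁻¹ * (x.out * a * s)) * n * b) := by
      calc y.out = x.out * (x.out⁻¹ * y.out) := by group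
        _ = _ := by rw [he]; group
    have hz1 : z.out⁻¹ * y.out ∈ dc P n :=
      (mem_dc P).2 ⟨_, hzB, b, hb, by rw [hz]; group⟩
    have hz2 : x.out⁻¹ * z.out ∈ dc P s :=
      (mem_dc P).2 ⟨a, ha, _, inv_mem hzB, by group⟩
    norm_cast
    rw [Finset.card_eq_one]
    refine ⟨z, Finset.eq_singleton_iff_unique_mem.mpr ⟨by simp [hz1, hz2], fun z' hz' => ?_⟩⟩
    simp only [Finset.mem_filter, Finset.mem_univ, true_and] at hz'
    rcases mul_mem_dc_ss P hs (dc_s_inv P hs hz'.2) hz2 with h | h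
    · rw [_root_.mul_inv_rev, inv_inv, hcomp] at h
      exact (out_mem_B_iff P z' z).1 h
    · rw [_root_.mul_inv_rev, inv_inv, hcomp] at h
      exfalso
      have h' := mul_mem_dc_s_mul P hs hn hle h hz1
      rw [hcomp] at h'
      exact disjoint_s_mul P hs hn h' hz'.1
  · norm_cast
    rw [Finset.card_eq_zero, Finset.filter_eq_empty_iff]
    rintro z - ⟨h1, h2⟩
    have := mul_mem_dc_s_mul P hs hn hle h2 h1
    rw [hcomp] at this
    exact hxy this

open scoped Classical in
theorem hecke_sq {s : G} (hs : s ∈ P.S) :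
    hecke P s * hecke P s =
      (valency P s : ℝ) • 1 + ((valency P s : ℝ) - 1) • hecke P s := by
  ext x y
  simp only [Matrix.mul_apply, hecke, Matrix.of_apply, mul_ite, mul_one, mul_zero, ← ite_and,
    Matrix.add_apply, Matrix.smul_apply, Matrix.one_apply, smul_eq_mul]
  rw [Finset.sum_boole]
  have hcomp : ∀ u v w : G ⧸ P.B, u.out⁻¹ * v.out * (v.out⁻¹ * w.out) = u.out⁻¹ * w.out :=
    fun u v w => by group
  have hinv : ∀ u v : G ⧸ P.B, u.out⁻¹ * v.out ∈ dc P s → v.out⁻¹ * u.out ∈ dc P s := by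
    intro u v h
    have := dc_s_inv P hs h
    rwa [_root_.mul_inv_rev, inv_inv] at this
  have hne : ∀ u v : G ⧸ P.B, u.out⁻¹ * v.out ∈ dc P s → u ≠ v := by
    intro u v h he
    rw [he, inv_mul_cancel] at h
    have := dc_eq_of_mem P h
    refine s_not_mem P hs ?_
    rw [← dc_one P, this]
    exact mem_dc_self P s
  have hcard : ∀ u : G ⧸ P.B, (Finset.univ.filter fun z : G ⧸ P.B => u.out⁻¹ * z.out ∈ dc P s).card
      = valency P s := by
    intro u
    rw [← card_step P s u, Nat.card_eq_fintype_card, Fintype.card_subtype]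
  by_cases hxy : x = y
  · subst hxy
    have hnot : ¬ x.out⁻¹ * x.out ∈ dc P s := fun h => hne x x h rfl
    rw [if_pos rfl, if_neg hnot, add_zero, ← hcard x]
    congr 2
    ext z
    simp only [Finset.mem_filter, Finset.mem_univ, true_and]
    exact ⟨fun h => h.2, fun h => ⟨hinv _ _ h, h⟩⟩
  rw [if_neg hxy, zero_add]
  split_ifs with h
  · rw [show (Finset.univ.filter fun z : G ⧸ P.B => z.out⁻¹ * y.out ∈ dc P s ∧
        x.out⁻¹ * z.out ∈ dc P s) = (Finset.univ.filter fun z : G ⧸ P.B =>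
        x.out⁻¹ * z.out ∈ dc P s).erase y from ?_]
    · rw [Finset.card_erase_of_mem (by simpa using h), hcard,
        Nat.cast_sub (hcard x ▸ Finset.card_pos.mpr ⟨y, by simpa using h⟩), Nat.cast_one]
    · ext z
      simp only [Finset.mem_filter, Finset.mem_univ, true_and, Finset.mem_erase]
      constructor
      · exact fun hz => ⟨hne _ _ hz.1, hz.2⟩
      · rintro ⟨hzy, hz⟩
        refine ⟨?_, hz⟩
        rcases mul_mem_dc_ss P hs (hinv _ _ hz) h with h' | h' <;> rw [hcomp] at h'
        · exact absurd ((out_mem_B_iff P z y).1 h') hzy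
        · exact h'
  · rw [Nat.cast_eq_zero, Finset.card_eq_zero, Finset.filter_eq_empty_iff]
    rintro z - ⟨h1, h2⟩
    rcases mul_mem_dc_ss P hs h2 h1 with h' | h' <;> rw [hcomp] at h'
    · exact hxy ((out_mem_B_iff P x y).1 h')
    · exact h h'

open scoped Classical in
theorem trace_hecke {n : G} (hn : n ∉ P.B) : (hecke P n).trace = 0 := by
  refine Finset.sum_eq_zero fun x _ => ?_
  simp only [Matrix.diag_apply, hecke, Matrix.of_apply, inv_mul_cancel]
  rw [if_neg]
  intro h
  exact hn ((dc_one P).1 (dc_eq_of_mem P h ▸ mem_dc_self P n))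

open scoped Classical in
theorem hecke_mulVec (s : G) :
    hecke P s *ᵥ (fun _ => (1 : ℝ)) = (valency P s : ℝ) • fun _ => (1 : ℝ) := by
  ext x
  simp only [Matrix.mulVec, dotProduct, hecke, Matrix.of_apply, mul_one, Pi.smul_apply, smul_eq_mul]
  rw [Finset.sum_boole, ← card_step P s x, Nat.card_eq_fintype_card, Fintype.card_subtype]

theorem two_le_valency {s : G} (hs : s ∈ P.S) : 2 ≤ valency P s := by
  obtain ⟨b, hb, hbs⟩ := exists_not_fix P hs
  have hmk : ∀ g ∈ dc P s, (1 : G) * (QuotientGroup.mk g : G ⧸ P.B).out ∈ dc P s := by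
    intro g hg
    rw [one_mul]
    have h : g⁻¹ * (QuotientGroup.mk g : G ⧸ P.B).out ∈ P.B := by
      rw [← QuotientGroup.eq, QuotientGroup.out_eq']
    have := dc_mul_right P h hg
    rwa [mul_inv_cancel_left] at this
  refine Finite.one_lt_card_iff_nontrivial.mpr ⟨⟨_, hmk s (mem_dc_self P s)⟩,
    ⟨_, hmk (b * s) ((mem_dc P).2 ⟨b, hb, 1, one_mem _, by group⟩)⟩, fun h => ?_⟩
  have h' := QuotientGroup.eq.1 (congrArg Subtype.val h)
  have e : s * b * s = (s * s) * (s⁻¹ * (b * s)) := by group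
  have hB : s * b * s ∈ P.B := e ▸ mul_mem (P.sq_mem s hs) h'
  refine s_not_mem P hs ?_
  rw [← dc_one P, ← dc_eq_of_mem P ((dc_one P).2 hB), dc_eq_of_mem P hbs]
  exact mem_dc_self P s

theorem exists_trace_eq_natCast {ι : Type*} [Fintype ι] [DecidableEq ι] {E : Matrix ι ι ℝ}
    (h : E * E = E) : ∃ n : ℕ, E.trace = n := by
  have hproj : IsIdempotentElem (Matrix.toLin' E) := by
    show Matrix.toLin' E * Matrix.toLin' E = Matrix.toLin' E
    rw [Module.End.mul_eq_comp, ← Matrix.toLin'_mul, h]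
  refine ⟨Module.finrank ℝ (LinearMap.range (Matrix.toLin' E)), ?_⟩
  rw [← Matrix.trace_toLin'_eq]
  exact (LinearMap.IsIdempotentElem.isProj_range (Matrix.toLin' E) hproj).trace

/-! ### Words -/

variable [hN : ((P.B ⊓ P.N).subgroupOf P.N).Normal]

/-- the product of the Hecke operators of a word -/
noncomputable def heckeWord (ω : List P.S) : Matrix (G ⧸ P.B) (G ⧸ P.B) ℝ :=
  open scoped Classical in (ω.map fun s : P.S => hecke P (s : G)).prod

theorem len_prod_of_red {ω : List P.S} (h : (exchangeData P).Red ω) :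
    len P (ω.map Subtype.val).prod = ω.length := by
  obtain ⟨hm, he⟩ := wgen_prod P ω
  have h' : wlen P ((ω.map (wgen P)).prod) = ω.length := h
  rwa [he, wlen_mk] at h'

theorem heckeWord_eq : ∀ {ω : List P.S}, (exchangeData P).Red ω →
    heckeWord P ω = hecke P (ω.map Subtype.val).prod := by
  intro ω
  induction ω with
  | nil => intro _; simp [heckeWord, hecke_one]
  | cons s ω ih =>
    intro hred
    have htail := (exchangeData P).red_tail hred
    have h1 := len_prod_of_red P hred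
    have h2 := len_prod_of_red P htail
    simp only [List.map_cons, List.prod_cons, List.length_cons] at h1 ⊢
    rw [← hecke_mul P s.2 (word_mem P (isWord_map P ω)) (by omega), ← ih htail]
    simp [heckeWord]

theorem trace_heckeWord {ω : List P.S} (h : (exchangeData P).Red ω) (hne : ω ≠ []) :
    (heckeWord P ω).trace = 0 := by
  rw [heckeWord_eq P h]
  refine trace_hecke P fun hB => hne ?_
  have := len_eq_zero_of_mem_B P hB
  rw [len_prod_of_red P h] at this
  exact List.length_eq_zero_iff.mp this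

theorem heckeWord_congr {ω ω' : List P.S} (h : (exchangeData P).Red ω) (h' : (exchangeData P).Red ω')
    (he : (exchangeData P).pw ω = (exchangeData P).pw ω') : heckeWord P ω = heckeWord P ω' := by
  rw [heckeWord_eq P h, heckeWord_eq P h']
  obtain ⟨h1, e1⟩ := wgen_prod P ω
  obtain ⟨h2, e2⟩ := wgen_prod P ω'
  refine hecke_congr P ((weyl_mk_eq P).1 ?_ : Cong P ((⟨_, h1⟩ : P.N) : G) ((⟨_, h2⟩ : P.N) : G))
  rw [← e1, ← e2]
  exact he

end Cfsg.Agent.Lib.FeitHigman

namespace Cfsg.Agent.Lib.FeitHigman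

open Cfsg.Agent.Lib.BNPair Cfsg.Agent.Lib.BNPair.ExchangeData

variable {W B : Type*} [Group W] (E : ExchangeData W B)

/-- the rotation -/
def rot (a b : B) : W := E.gen a * E.gen b

theorem inv_gen (a : B) : (E.gen a)⁻¹ = E.gen a := inv_eq_of_mul_eq_one_right (E.sq a)

theorem pw_alt_even (a b : B) (i : ℕ) : E.pw (alt a b (2 * i)) = rot E a b ^ i := by
  induction i with
  | zero => simp [alt, ExchangeData.pw]
  | succ i ih =>
    rw [show 2 * (i + 1) = 2 * i + 1 + 1 by ring, alt, alt, E.pw_cons, E.pw_cons, ih, ← mul_assoc,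
      pow_succ']
    rfl

theorem pw_alt_odd (a b : B) (i : ℕ) :
    E.pw (alt a b (2 * i + 1)) = rot E a b ^ i * E.gen a := by
  induction i with
  | zero => simp [alt, ExchangeData.pw]
  | succ i ih =>
    rw [show 2 * (i + 1) + 1 = 2 * i + 1 + 1 + 1 by ring, alt, alt, E.pw_cons, E.pw_cons, ih,
      ← mul_assoc, ← mul_assoc, pow_succ']
    rfl

theorem rot_swap (a b : B) : rot E b a = (rot E a b)⁻¹ := by
  rw [rot, rot, mul_inv_rev, inv_gen, inv_gen]

theorem gen_not_mem_zpowers {a b : B} (hab : a ≠ b) :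
    E.gen a ∉ Subgroup.zpowers (rot E a b) := by
  intro h
  obtain ⟨k, hk⟩ := Subgroup.mem_zpowers_iff.mp h
  have hc : Commute (E.gen a) (rot E a b) := hk ▸ (Commute.refl _).zpow_left k
  have h2 : rot E a b * rot E a b = 1 := by
    have hb : E.gen b = E.gen a * E.gen b * E.gen a := by
      have := hc.eq
      simp only [rot] at this
      rwa [← mul_assoc, E.sq, one_mul] at this
    calc rot E a b * rot E a b = E.gen a * E.gen b * E.gen a * E.gen b := by simp [rot, mul_assoc]
      _ = 1 := by rw [← hb, E.sq]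
  rcases Int.even_or_odd k with ⟨j, hj⟩ | ⟨j, hj⟩
  · refine E.ne_one a ?_
    rw [← hk, hj, ← two_mul, zpow_mul, zpow_ofNat, pow_two, h2, one_zpow]
  · refine E.ne_one b ?_
    rw [hj, zpow_add, zpow_mul, zpow_ofNat, pow_two, h2, one_zpow, one_mul, zpow_one] at hk
    have : E.gen a * E.gen b = E.gen a * 1 := by rw [mul_one]; exact hk
    exact mul_left_cancel this

theorem exists_alt {a b : B} (htwo : ∀ x, x = a ∨ x = b) (w : W) :
    ∃ k, (w = E.pw (alt a b k) ∨ w = E.pw (alt b a k)) ∧ k = E.len w := by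
  obtain ⟨ω, hl, hw⟩ := E.exists_word w
  have hred : E.Red ω := by
    show E.len (E.pw ω) = ω.length
    rw [ExchangeData.pw, hw, hl]
  refine ⟨ω.length, ?_, hl⟩
  cases ω with
  | nil => left; rw [← hw]; rfl
  | cons x ω =>
    rcases htwo x with rfl | rfl
    · left
      rw [← hw, ← E.red_eq_alt (x :: ω) hred (fun y _ => htwo y) (Or.inl rfl)]
      rfl
    · right
      rw [← hw, ← E.red_eq_alt (x :: ω) hred (fun y _ => (htwo y).symm) (Or.inl rfl)]
      rfl

theorem red_alt {a b : B} (hab : a ≠ b) (htwo : ∀ x, x = a ∨ x = b) {n : ℕ}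
    (hn : n ≤ orderOf (rot E a b)) : E.Red (alt a b n) := by
  show E.len (E.pw (alt a b n)) = _
  rw [length_alt]
  have hle : E.len (E.pw (alt a b n)) ≤ n := by
    have := E.len_le (alt a b n); rwa [length_alt] at this
  obtain ⟨k, hk, hkl⟩ := exists_alt E htwo (E.pw (alt a b n))
  by_contra hne
  have hkn : k < n := by omega
  clear hkl hle hne
  generalize hz : rot E a b = z at hn
  have hmem := gen_not_mem_zpowers E hab
  rw [hz] at hmem
  have hpow : ∀ i j : ℕ, z ^ i = z ^ j → i < j → orderOf z ≤ j - i := fun i j h hij =>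
    Nat.le_of_dvd (by omega) (orderOf_dvd_of_pow_eq_one (by rw [pow_sub _ hij.le, h, mul_inv_cancel]))
  have hb : E.gen b = E.gen a * z := by rw [← hz, rot, ← mul_assoc, E.sq, one_mul]
  have hza : E.gen a * z = z⁻¹ * E.gen a := by
    rw [← hz, rot, ← mul_assoc, E.sq, one_mul, mul_inv_rev, inv_gen, inv_gen, mul_assoc, E.sq,
      mul_one]
  rcases Nat.even_or_odd' n with ⟨i, rfl | rfl⟩ <;> rcases Nat.even_or_odd' k with ⟨j, rfl | rfl⟩ <;>
    rcases hk with hk | hk <;>
    simp only [pw_alt_even, pw_alt_odd, rot_swap E a b, hz, inv_pow] at hk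
  · exact absurd (hpow j i hk.symm (by omega)) (by omega)
  · have h : z ^ (i + j) = 1 := by rw [pow_add, hk, inv_mul_cancel]
    exact absurd (Nat.le_of_dvd (by omega) (orderOf_dvd_of_pow_eq_one h)) (by omega)
  · refine hmem ?_
    have : E.gen a = (z ^ j)⁻¹ * z ^ i := by rw [hk]; group
    exact this ▸ mul_mem (inv_mem (pow_mem (Subgroup.mem_zpowers z) _)) (pow_mem (Subgroup.mem_zpowers z) _)
  · rw [hb, hza, ← mul_assoc] at hk
    refine hmem ?_
    have : E.gen a = ((z ^ j)⁻¹ * z⁻¹)⁻¹ * z ^ i := by rw [hk]; group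
    exact this ▸ mul_mem (inv_mem (mul_mem (inv_mem (pow_mem (Subgroup.mem_zpowers z) _))
      (inv_mem (Subgroup.mem_zpowers z)))) (pow_mem (Subgroup.mem_zpowers z) _)
  · refine hmem ?_
    have : E.gen a = (z ^ i)⁻¹ * z ^ j := by rw [← hk]; group
    exact this ▸ mul_mem (inv_mem (pow_mem (Subgroup.mem_zpowers z) _)) (pow_mem (Subgroup.mem_zpowers z) _)
  · refine hmem ?_
    have : E.gen a = (z ^ i)⁻¹ * (z ^ j)⁻¹ := by rw [← hk]; group
    exact this ▸ mul_mem (inv_mem (pow_mem (Subgroup.mem_zpowers z) _)) (inv_mem (pow_mem (Subgroup.mem_zpowers z) _))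
  · exact absurd (hpow j i (mul_right_cancel hk).symm (by omega)) (by omega)
  · rw [hb, hza, ← mul_assoc] at hk
    have h : z ^ (i + (j + 1)) = 1 := by
      rw [pow_add, mul_right_cancel hk, pow_succ']; group
    exact absurd (Nat.le_of_dvd (by omega) (orderOf_dvd_of_pow_eq_one h)) (by omega)

theorem index_zpowers_rot {a b : B} (hab : a ≠ b) (htwo : ∀ x, x = a ∨ x = b) :
    (Subgroup.zpowers (rot E a b)).index = 2 := by
  rw [Subgroup.index_eq_two_iff]
  refine ⟨E.gen a, fun w => ?_⟩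
  have hmem := gen_not_mem_zpowers E hab
  have hcase : w ∈ Subgroup.zpowers (rot E a b) ∨ w * E.gen a ∈ Subgroup.zpowers (rot E a b) := by
    obtain ⟨k, hk, -⟩ := exists_alt E htwo w
    rcases hk with rfl | rfl <;> rcases Nat.even_or_odd' k with ⟨i, rfl | rfl⟩ <;>
      simp only [pw_alt_even, pw_alt_odd, rot_swap E a b, mul_assoc, E.sq, mul_one]
    · exact Or.inl (pow_mem (Subgroup.mem_zpowers _) i)
    · exact Or.inr (pow_mem (Subgroup.mem_zpowers _) i)
    · exact Or.inl (pow_mem (inv_mem (Subgroup.mem_zpowers _)) i)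
    · refine Or.inr (mul_mem (pow_mem (inv_mem (Subgroup.mem_zpowers _)) i) ?_)
      show rot E b a ∈ _
      rw [rot_swap E a b]
      exact Subgroup.inv_mem _ (Subgroup.mem_zpowers (rot E a b))
  by_cases hw : w ∈ Subgroup.zpowers (rot E a b)
  · exact Or.inr ⟨hw, fun h => hmem ((Subgroup.mul_mem_cancel_left _ hw).1 h)⟩
  · exact Or.inl ⟨hcase.resolve_left hw, hw⟩

end Cfsg.Agent.Lib.FeitHigman
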