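import Cfsg.Agent.Lib.FeitHigman.Algebra

/-!
The trigonometric spherical functions and the rationality condition of Feit and Higman.
-/

set_option autoImplicit false

namespace Cfsg.Agent.Lib.FeitHigman

open Finset Real

theorem sum_cos_two_mul (θ : ℝ) (n : ℕ) :
    2 * sin θ * ∑ j ∈ range n, cos (2 * (j * θ)) = sin (2 * (n * θ) - θ) + sin θ := by
  induction n with
  | zero => simp
  | succ n ih =>
    rw [sum_range_succ, mul_add, ih]
    have e : 2 * (((n + 1 : ℕ) : ℝ) * θ) - θ = 2 * (n * θ) + θ := by push_cast; ring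
    rw [e, sin_add, sin_sub]; ring

theorem sum_sin_two_mul (θ : ℝ) (n : ℕ) :
    2 * sin θ * ∑ j ∈ range n, sin (2 * (j * θ)) = cos θ - cos (2 * (n * θ) - θ) := by
  induction n with
  | zero => simp
  | succ n ih =>
    rw [sum_range_succ, mul_add, ih]
    have e : 2 * (((n + 1 : ℕ) : ℝ) * θ) - θ = 2 * (n * θ) + θ := by push_cast; ring
    rw [e, cos_add, cos_sub]; ring

/-- the spherical function -/
noncomputable def sphU (α β θ : ℝ) (j : ℕ) : ℝ := α * cos (j * θ) + β * sin (j * θ)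

theorem sum_sphU_sq (α β θ : ℝ) (n : ℕ) :
    ∑ j ∈ range n, sphU α β θ j ^ 2 =
      (n : ℝ) * (α ^ 2 + β ^ 2) / 2 + (α ^ 2 - β ^ 2) / 2 * ∑ j ∈ range n, cos (2 * (j * θ)) +
        α * β * ∑ j ∈ range n, sin (2 * (j * θ)) := by
  induction n with
  | zero => simp
  | succ n ih =>
    rw [sum_range_succ, ih, sum_range_succ, sum_range_succ, sphU, cos_two_mul, sin_two_mul]
    push_cast
    linear_combination (β ^ 2) * sin_sq_add_cos_sq ((n : ℝ) * θ)

theorem sphU_rec (α β θ : ℝ) (j : ℕ) :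
    sphU α β θ (j + 2) = 2 * cos θ * sphU α β θ (j + 1) - sphU α β θ j := by
  have e1 : ((j + 2 : ℕ) : ℝ) * θ = ((j + 1 : ℕ) : ℝ) * θ + θ := by push_cast; ring
  have e2 : (j : ℝ) * θ = ((j + 1 : ℕ) : ℝ) * θ - θ := by push_cast; ring
  simp only [sphU]
  rw [e1, e2, cos_add, cos_sub, sin_add, sin_sub]; ring

/-- the parameters of the spherical function -/
structure Params where
  a : ℝ
  b : ℝ
  θ : ℝ
  ha : 1 < a
  hb : 1 < b
  hs : sin θ ≠ 0

namespace Params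

variable (P : Params)

/-- `√(a b)` -/
noncomputable def r : ℝ := Real.sqrt (P.a * P.b)

/-- the value at the base point -/
noncomputable def α : ℝ := (1 + P.a) / P.a

/-- the sine coefficient -/
noncomputable def β : ℝ := ((P.a - 1) / P.a * cos P.θ + (P.b - 1) / P.r) / sin P.θ

/-- the eigenvalue -/
noncomputable def x : ℝ := 2 * P.r * cos P.θ

/-- the spherical values -/
noncomputable def p (j : ℕ) : ℝ := if j = 0 then 1 else P.r ^ j * sphU P.α P.β P.θ j

theorem r_pos : 0 < P.r := Real.sqrt_pos.mpr (by nlinarith [P.ha, P.hb])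

theorem r_sq : P.r * P.r = P.a * P.b := Real.mul_self_sqrt (by nlinarith [P.ha, P.hb])

theorem a_pos : 0 < P.a := lt_trans one_pos P.ha

theorem b_pos : 0 < P.b := lt_trans one_pos P.hb

theorem one_add_a_pos : 0 < 1 + P.a := by linarith [P.a_pos]

theorem u_zero : sphU P.α P.β P.θ 0 = P.α := by simp [sphU]

theorem β_sin : P.β * sin P.θ = (P.a - 1) / P.a * cos P.θ + (P.b - 1) / P.r :=
  div_mul_cancel₀ _ P.hs

theorem p_zero : P.p 0 = 1 := if_pos rfl

theorem p_succ (j : ℕ) : P.p (j + 1) = P.r ^ (j + 1) * sphU P.α P.β P.θ (j + 1) := if_neg (by omega)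

theorem p_one : P.p 1 = P.x + (P.b - 1) := by
  rw [p_succ, sphU, x]
  norm_num
  rw [P.β_sin, α]
  have := P.a_pos.ne'; have := P.r_pos.ne'
  field_simp; ring

theorem p_two : P.p 2 = P.x * P.p 1 - P.b * (1 + P.a) := by
  rw [p_succ, sphU_rec, P.u_zero, x, p_succ]
  have h : P.r ^ 2 * P.α = P.b * (1 + P.a) := by
    rw [pow_two, P.r_sq, α]; have := P.a_pos.ne'; field_simp
  linear_combination (-1 : ℝ) * h

theorem p_rec (j : ℕ) : P.p (j + 3) = P.x * P.p (j + 2) - P.a * P.b * P.p (j + 1) := by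
  rw [p_succ, p_succ, p_succ, sphU_rec, x, ← P.r_sq]
  ring

theorem div_eta (j : ℕ) :
    P.p (j + 1) / eta P.a P.b (j + 1) * P.p (j + 1) =
      P.a / (1 + P.a) * sphU P.α P.β P.θ (j + 1) ^ 2 := by
  rw [p_succ, eta, ← P.r_sq]
  have hr := P.r_pos.ne'
  have hb := P.b_pos.ne'
  have ha := P.a_pos.ne'
  have := P.one_add_a_pos.ne'
  have e : P.r ^ (j + 1) * P.r ^ (j + 1) = P.a * P.b * (P.r * P.r) ^ j := by
    rw [← P.r_sq, ← mul_pow, pow_succ']
  field_simp
  linear_combination sphU P.α P.β P.θ (j + 1) ^ 2 * e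

/-- the rational function whose values are rational -/
theorem α_β_eq :
    P.a * (P.α ^ 2 + P.β ^ 2) = 4 + ((P.a - 1) ^ 2 / P.a + (P.b - 1) ^ 2 / P.b +
      2 * (P.a - 1) * (P.b - 1) * cos P.θ / P.r) / sin P.θ ^ 2 := by
  have hr := P.r_pos.ne'
  have hb := P.b_pos.ne'
  have ha := P.a_pos.ne'
  have hs := P.hs
  rw [α, β]
  field_simp
  linear_combination ((P.a - 1) ^ 2 * P.b * P.r ^ 2) * sin_sq_add_cos_sq P.θ +
    (- (P.a * (P.b - 1) ^ 2)) * P.r_sq

theorem sphU_one_sq_sum_pos {w : ℕ → ℝ} {d : ℕ} (h0 : w 0 = 1)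
    (h : ∀ j, j + 1 ≤ d → 0 ≤ w (j + 1) * P.p (j + 1)) :
    0 < ∑ j ∈ range (d + 1), w j * P.p j := by
  rw [sum_range_succ', h0, p_zero, mul_one]
  have := sum_nonneg (s := range d) (f := fun j => w (j + 1) * P.p (j + 1))
    fun j hj => h j (by simpa [Nat.succ_le_iff] using hj)
  linarith

section

variable {R : Type*} [Ring R] [Algebra ℝ R] {S T : R}
  (hS : S * S = P.a • 1 + (P.a - 1) • S) (hT : T * T = P.b • 1 + (P.b - 1) • T)
  (tr : R →ₗ[ℝ] ℝ) (hcyc : ∀ x y : R, tr (x * y) = tr (y * x))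
  {N : ℕ} (hN : tr 1 = (N : ℝ)) (hN0 : N ≠ 0) (hSt : tr S = 0)
  (hidem : ∀ E : R, E * E = E → ∃ n : ℕ, tr E = n)
include hS hT hcyc hN hN0 hSt hidem

theorem rational_even {D : ℕ}
    (htrX : ∀ j, j + 1 ≤ D + 2 → tr (word S T j) = 0 ∧ tr (S * word S T j) = 0)
    (hX : word S T (D + 1) * S = S * word S T (D + 1))
    (hθ : sin ((D + 2 : ℕ) * P.θ) = 0) :
    ∃ κ : ℚ, (P.a - 1) ^ 2 / P.a + (P.b - 1) ^ 2 / P.b +
      2 * (P.a - 1) * (P.b - 1) * cos P.θ / P.r = (κ : ℝ) * sin P.θ ^ 2 := by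
  have hr := P.r_pos.ne'
  have ha := P.a_pos.ne'
  have hb := P.b_pos.ne'
  have h1a := P.one_add_a_pos.ne'
  let w : ℕ → ℝ := fun j => if j = D + 2 then P.p j / ((1 + P.a) * eta P.a P.b j)
    else P.p j / eta P.a P.b j
  have hwj : ∀ j ≤ D + 1, w j = P.p j / eta P.a P.b j := fun j hj => if_neg (by omega)
  have hwd : w (D + 2) = P.p (D + 2) / ((1 + P.a) * eta P.a P.b (D + 2)) := if_pos rfl
  have hcos : cos ((D + 2 : ℕ) * P.θ) ^ 2 = 1 := by
    rw [cos_sq', hθ]; ring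
  have htop : sphU P.α P.β P.θ (D + 2) = P.α * cos ((D + 2 : ℕ) * P.θ) := by
    rw [sphU, hθ]; ring
  have hg : P.x * P.p (D + 2) =
      P.a * P.b * (1 + P.a) * P.p (D + 1) + P.a * (P.b - 1) * P.p (D + 2) := by
    have hu : sphU P.α P.β P.θ (D + 1) =
        cos ((D + 2 : ℕ) * P.θ) * (P.α * cos P.θ - P.β * sin P.θ) := by
      have e : ((D + 1 : ℕ) : ℝ) * P.θ = ((D + 2 : ℕ) : ℝ) * P.θ - P.θ := by push_cast; ring
      rw [sphU, e, cos_sub, sin_sub, hθ]; ring
    rw [p_succ, p_succ, htop, hu, P.β_sin, x, ← P.r_sq, pow_succ P.r (D + 1), α]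
    field_simp
    ring
  have heig : partialSum S T w (D + 2) * (T * (1 + S)) =
      (P.x + (P.b - 1)) • partialSum S T w (D + 2) := by
    have hres := residual P.a_pos P.b_pos hS hT P.p_zero P.p_one P.p_two D
      (fun j _ => P.p_rec j) hwj
    rw [← sub_eq_zero, partialSum_succ, add_mul, smul_mul_assoc, smul_add, add_sub_add_comm, hres,
      sph_succ_mul hS hT, sph_top_even hS hT D hX, hwj (D + 1) le_rfl, hwd]
    simp only [eta, pow_succ]
    match_scalars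
    · field_simp
      linear_combination (-1 : ℝ) * hg
    · field_simp
      ring
  have hterm : ∀ j ≤ D, w (j + 1) * P.p (j + 1) =
      P.a / (1 + P.a) * sphU P.α P.β P.θ (j + 1) ^ 2 := fun j hj => by
    rw [hwj _ (by omega), P.div_eta]
  have hlast : w (D + 2) * P.p (D + 2) = P.a / (1 + P.a) ^ 2 * P.α ^ 2 := by
    rw [hwd, div_mul_eq_div_div_swap, div_mul_eq_mul_div, P.div_eta, htop, mul_pow, hcos]
    field_simp
  have hpos := P.sphU_one_sq_sum_pos (w := w) (d := D + 2)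
    (by rw [hwj 0 (by omega), eta, p_zero, div_one]) fun j hj => by
      have := P.a_pos; have := P.one_add_a_pos
      rcases eq_or_lt_of_le hj with h | h
      · obtain rfl : j = D + 1 := by omega
        rw [hlast]; positivity
      · rw [hterm j (by omega)]; positivity
  obtain ⟨q, hq⟩ := multiplicity P.a_pos P.b_pos hS hT tr hcyc hN (by exact_mod_cast hN0) hSt hidem
    htrX P.p_zero P.p_one P.p_two (fun j _ => P.p_rec j)
    (by rw [hwj 0 (by omega), eta, p_zero, div_one]) heig hpos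
  have hsum : (∑ j ∈ range (D + 2 + 1), w j * P.p j) * (1 + P.a) =
      ((D + 2 : ℕ) : ℝ) / 2 * (P.a * (P.α ^ 2 + P.β ^ 2)) := by
    rw [sum_range_succ, hlast, sum_range_succ', hwj 0 (by omega), p_zero, eta,
      sum_congr rfl fun j hj => hterm j (by simpa [Nat.lt_succ_iff] using hj), ← mul_sum]
    have h := sum_sphU_sq P.α P.β P.θ (D + 2)
    rw [sum_range_succ', P.u_zero] at h
    have h2 : sin (2 * (((D + 2 : ℕ) : ℝ) * P.θ)) = 0 := by rw [sin_two_mul, hθ]; ring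
    have h3 : cos (2 * (((D + 2 : ℕ) : ℝ) * P.θ)) = 1 := by
      rw [cos_two_mul, hcos]; ring
    have c1 := sum_cos_two_mul P.θ (D + 2)
    have c2 := sum_sin_two_mul P.θ (D + 2)
    rw [sin_sub, h2, h3] at c1
    rw [cos_sub, h2, h3] at c2
    have z1 : ∑ j ∈ range (D + 2), cos (2 * ((j : ℝ) * P.θ)) = 0 :=
      (mul_eq_zero.mp (c1.trans (by ring))).resolve_left (mul_ne_zero two_ne_zero P.hs)
    have z2 : ∑ j ∈ range (D + 2), sin (2 * ((j : ℝ) * P.θ)) = 0 :=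
      (mul_eq_zero.mp (c2.trans (by ring))).resolve_left (mul_ne_zero two_ne_zero P.hs)
    rw [z1, z2] at h
    have hα : P.a * P.α = 1 + P.a := by rw [α]; field_simp
    field_simp
    linear_combination (2 * P.a * (1 + P.a)) * h -
      2 * (P.a * P.α + 1 + P.a) * hα
  rw [hsum, P.α_β_eq] at hq
  refine ⟨q * N * 2 / (D + 2 : ℕ) - 4, ?_⟩
  have hd : ((D + 2 : ℕ) : ℝ) ≠ 0 := Nat.cast_ne_zero.mpr (by omega)
  push_cast at hq ⊢ hd
  rw [mul_add, ← eq_sub_iff_add_eq'] at hq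
  have hs := P.hs
  field_simp at hq ⊢
  linear_combination hq

theorem rational_odd {D : ℕ} (hab : P.b = P.a)
    (htrX : ∀ j, j + 1 ≤ D + 2 → tr (word S T j) = 0 ∧ tr (S * word S T j) = 0)
    (hX : word S T (D + 2) = S * word S T (D + 1) * S)
    (hθs : sin ((2 * (D + 2) + 1 : ℕ) * P.θ) = 0) (hθc : cos ((2 * (D + 2) + 1 : ℕ) * P.θ) = 1) :
    ∃ κ : ℚ, 2 * (P.a - 1) ^ 2 / P.a * (1 + cos P.θ) = (κ : ℝ) * sin P.θ ^ 2 := by
  have hr : P.r = P.a := by
    rw [r, hab, Real.sqrt_mul_self P.a_pos.le]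
  have ha := P.a_pos.ne'
  have h1a := P.one_add_a_pos.ne'
  have hs := P.hs
  let w : ℕ → ℝ := fun j => P.p j / eta P.a P.b j
  have hw0 : w 0 = 1 := by simp [w, eta, p_zero]
  have hg : P.p (D + 3) = P.a * P.a * P.p (D + 2) := by
    have e1 : cos (((D + 3 : ℕ) : ℝ) * P.θ) = cos (((D + 2 : ℕ) : ℝ) * P.θ) := by
      have e : ((D + 3 : ℕ) : ℝ) * P.θ =
          ((2 * (D + 2) + 1 : ℕ) : ℝ) * P.θ - ((D + 2 : ℕ) : ℝ) * P.θ := by push_cast; ring
      rw [e, cos_sub, hθs, hθc]; ring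
    have e2 : sin (((D + 3 : ℕ) : ℝ) * P.θ) = - sin (((D + 2 : ℕ) : ℝ) * P.θ) := by
      have e : ((D + 3 : ℕ) : ℝ) * P.θ =
          ((2 * (D + 2) + 1 : ℕ) : ℝ) * P.θ - ((D + 2 : ℕ) : ℝ) * P.θ := by push_cast; ring
      rw [e, sin_sub, hθs, hθc]; ring
    have e3 : sin (((D + 3 : ℕ) : ℝ) * P.θ) =
        sin (((D + 2 : ℕ) : ℝ) * P.θ) * cos P.θ + cos (((D + 2 : ℕ) : ℝ) * P.θ) * sin P.θ := by
      rw [← sin_add]; push_cast; ring_nf
    rw [e2] at e3
    rw [p_succ, p_succ, hr, sphU, sphU, e1, e2, α, β, hr, hab, pow_succ _ (D + 2)]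
    field_simp
    linear_combination ((P.a ^ 2 - 1)) * e3
  have heig : partialSum S T w (D + 2) * (T * (1 + S)) =
      (P.x + (P.b - 1)) • partialSum S T w (D + 2) := by
    have hres := residual P.a_pos P.b_pos hS hT P.p_zero P.p_one P.p_two (D + 1)
      (fun j _ => P.p_rec j) (w := w) (fun j _ => rfl)
    rw [← sub_eq_zero, hres, sph_top_odd hS D hX]
    simp only [w]
    match_scalars
    linear_combination (-(eta P.a P.b (D + 1 + 1))⁻¹) * hg
  have hterm : ∀ j, w (j + 1) * P.p (j + 1) =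
      P.a / (1 + P.a) * sphU P.α P.β P.θ (j + 1) ^ 2 := fun j => P.div_eta j
  have hpos := P.sphU_one_sq_sum_pos (w := w) (d := D + 2) hw0 fun j _ => by
    have := P.a_pos; have := P.one_add_a_pos
    rw [hterm j]; positivity
  obtain ⟨q, hq⟩ := multiplicity P.a_pos P.b_pos hS hT tr hcyc hN (by exact_mod_cast hN0) hSt hidem
    htrX P.p_zero P.p_one P.p_two (fun j _ => P.p_rec j) hw0 heig hpos
  have hsum : (∑ j ∈ range (D + 2 + 1), w j * P.p j) * (1 + P.a) =
      ((2 * (D + 2) + 1 : ℕ) : ℝ) / 4 * (P.a * (P.α ^ 2 + P.β ^ 2)) := by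
    rw [sum_range_succ', hw0, p_zero, sum_congr rfl fun j _ => hterm j, ← mul_sum]
    have h := sum_sphU_sq P.α P.β P.θ (D + 2 + 1)
    rw [sum_range_succ', P.u_zero] at h
    have e : 2 * (((D + 2 + 1 : ℕ) : ℝ) * P.θ) - P.θ = ((2 * (D + 2) + 1 : ℕ) : ℝ) * P.θ := by
      push_cast; ring
    have c1 := sum_cos_two_mul P.θ (D + 2 + 1)
    have c2 := sum_sin_two_mul P.θ (D + 2 + 1)
    rw [e, hθs] at c1
    rw [e, hθc] at c2
    have z1 : ∑ j ∈ range (D + 2 + 1), cos (2 * ((j : ℝ) * P.θ)) = 1 / 2 := by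
      rw [eq_div_iff two_ne_zero]
      exact mul_right_cancel₀ hs (by linear_combination c1)
    have z2 : ∑ j ∈ range (D + 2 + 1), sin (2 * ((j : ℝ) * P.θ)) =
        (cos P.θ - 1) / (2 * sin P.θ) := by
      rw [eq_div_iff (mul_ne_zero two_ne_zero hs)]; linear_combination c2
    rw [z1, z2] at h
    have hα : P.a * P.α = 1 + P.a := by rw [α]; field_simp
    have hβ : P.β * sin P.θ = (P.a - 1) / P.a * (1 + cos P.θ) := by
      rw [P.β_sin, hr, hab]; ring
    have hkey : P.α * P.β * ((cos P.θ - 1) / (2 * sin P.θ)) = - (P.α * (P.a - 1) / (2 * P.a)) := by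
      have hcs : cos P.θ ^ 2 - 1 = - sin P.θ ^ 2 := by linarith [sin_sq_add_cos_sq P.θ]
      have : P.α * (P.β * sin P.θ) * (cos P.θ - 1) = - (P.α * (P.a - 1) / P.a) * sin P.θ ^ 2 := by
        rw [hβ]; linear_combination P.α * (P.a - 1) / P.a * hcs
      field_simp at this ⊢
      linear_combination this
    rw [hkey] at h
    rw [α] at h ⊢
    field_simp at h ⊢
    push_cast at h ⊢
    linear_combination h
  rw [hsum, P.α_β_eq, hr, hab] at hq
  refine ⟨q * N * 4 / (2 * (D + 2) + 1 : ℕ) - 4, ?_⟩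
  have hd : ((2 * (D + 2) + 1 : ℕ) : ℝ) ≠ 0 := Nat.cast_ne_zero.mpr (by omega)
  push_cast at hq ⊢ hd
  field_simp at hq ⊢
  linear_combination hq

end

end Params

end Cfsg.Agent.Lib.FeitHigman
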